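import Mathlib

set_option autoImplicit false
set_option backward.isDefEq.respectTransparency.types false
set_option synthInstance.maxHeartbeats 400000
set_option maxHeartbeats 4000000
set_option linter.style.haveILetI false
set_option linter.unusedSectionVars false
set_option linter.unusedVariables false
set_option linter.unusedSimpArgs false

/-!
# Algebraic core for extending a morphism to a smooth scheme over an étale neighbourhood
-/

open TensorProduct

namespace Groth.Agent.Helper2.EtNbhd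

universe u

section IL
variable {A₀ B₀ : Type u} [CommRing A₀] [CommRing B₀] [Algebra A₀ B₀]

/-- The idempotent cutting out a section of an unramified algebra. -/
theorem exists_idem [Algebra.FormallyUnramified A₀ B₀] [Algebra.EssFiniteType A₀ B₀]
    (σ : B₀ →ₐ[A₀] A₀) :
    ∃ e₀ : B₀, σ e₀ = 1 ∧ ∀ s : B₀, (s - algebraMap A₀ B₀ (σ s)) * e₀ = 0 := by
  obtain ⟨t, ht₁, ht₂⟩ := Algebra.FormallyUnramified.iff_exists_tensorProduct.mp
    (inferInstance : Algebra.FormallyUnramified A₀ B₀)
  let m : B₀ ⊗[A₀] B₀ →ₐ[A₀] B₀ :=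
    Algebra.TensorProduct.productMap ((Algebra.ofId A₀ B₀).comp σ) (AlgHom.id A₀ B₀)
  refine ⟨m t, ?_, fun s => ?_⟩
  · have h : (σ.comp m) = σ.comp (Algebra.TensorProduct.lmul' A₀) := by
      apply Algebra.TensorProduct.ext'
      intro x y
      simp [m, Algebra.ofId_apply]
    have := congr($h t)
    simpa [ht₂] using this
  · have := congrArg m (ht₁ s)
    simpa [m, map_mul, map_sub, Algebra.ofId_apply] using this

end IL

section Core
variable {P A A₀ C : Type u} [CommRing P] [CommRing A] [CommRing A₀] [CommRing C]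
  [Algebra P A] [Algebra P A₀] [Algebra P C] [Algebra.Etale P C]

theorem alg_core (ρ : A →ₐ[P] A₀) (hρ : Function.Surjective ρ) (φ₀ : C →ₐ[P] A₀) :
    ∃ (b : A ⊗[P] C) (τ : Localization.Away b →+* A₀),
      (∀ x : A ⊗[P] C, τ (algebraMap _ _ x) = Algebra.TensorProduct.productMap ρ φ₀ x) ∧
      RingHom.ker τ ≤ (RingHom.ker ρ.toRingHom).map
        ((algebraMap (A ⊗[P] C) (Localization.Away b)).comp
          (Algebra.TensorProduct.includeLeftRingHom)) := by
  haveI : Algebra.Etale A₀ (A₀ ⊗[P] C) := inferInstance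
  let σ : A₀ ⊗[P] C →ₐ[A₀] A₀ :=
    Algebra.TensorProduct.lift (AlgHom.id A₀ A₀) φ₀ (fun _ _ => Commute.all _ _)
  let ρ' : A ⊗[P] C →ₐ[P] A₀ ⊗[P] C := Algebra.TensorProduct.map ρ (AlgHom.id P C)
  have hρ' : Function.Surjective ρ' :=
    Algebra.TensorProduct.map_surjective ρ (AlgHom.id P C) hρ Function.surjective_id
  have hkerρ' : RingHom.ker ρ' = (RingHom.ker ρ).map
      (Algebra.TensorProduct.includeLeft : A →ₐ[P] A ⊗[P] C) :=
    Algebra.TensorProduct.rTensor_ker ρ hρ
  obtain ⟨e₀, he₀1, he₀2⟩ := exists_idem σ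
  obtain ⟨b, hb⟩ := hρ' e₀
  have hσρ' : ∀ x : A ⊗[P] C, σ (ρ' x) = Algebra.TensorProduct.productMap ρ φ₀ x := by
    intro x
    induction x using TensorProduct.induction_on with
    | zero => simp
    | tmul a c => simp [σ, ρ']
    | add x y hx hy => simp only [map_add, hx, hy]
  have hunit : IsUnit ((Algebra.TensorProduct.productMap ρ φ₀).toRingHom b) := by
    show IsUnit (Algebra.TensorProduct.productMap ρ φ₀ b)
    rw [← hσρ', hb, he₀1]
    exact isUnit_one
  let τ : Localization.Away b →+* A₀ := IsLocalization.Away.lift b hunit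
  have hτ : ∀ x : A ⊗[P] C, τ (algebraMap _ _ x) = Algebra.TensorProduct.productMap ρ φ₀ x :=
    fun x => IsLocalization.Away.lift_eq b hunit x
  refine ⟨b, τ, hτ, ?_⟩
  intro x hx
  rw [RingHom.mem_ker] at hx
  obtain ⟨⟨y, s⟩, hys⟩ := IsLocalization.surj (Submonoid.powers b) x
  simp only at hys
  have hy0 : Algebra.TensorProduct.productMap ρ φ₀ y = 0 := by
    rw [← hτ, ← hys, map_mul, hx, zero_mul]
  have hyb : y * b ∈ RingHom.ker ρ' := by
    rw [RingHom.mem_ker, map_mul, hb]
    have h1 := he₀2 (ρ' y)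
    rw [hσρ', hy0, map_zero, sub_zero] at h1
    exact h1
  rw [hkerρ'] at hyb
  have hmem : algebraMap (A ⊗[P] C) (Localization.Away b) (y * b) ∈
      (RingHom.ker ρ.toRingHom).map ((algebraMap (A ⊗[P] C) (Localization.Away b)).comp
        (Algebra.TensorProduct.includeLeftRingHom)) := by
    rw [← Ideal.map_map]
    exact Ideal.mem_map_of_mem _ hyb
  have hu : IsUnit (algebraMap (A ⊗[P] C) (Localization.Away b) ((s : A ⊗[P] C) * b)) := by
    rw [map_mul]
    exact (IsLocalization.map_units _ s).mul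
      (IsLocalization.map_units _ (⟨b, Submonoid.mem_powers b⟩ : Submonoid.powers b))
  have hxe : x * algebraMap (A ⊗[P] C) (Localization.Away b) ((s : A ⊗[P] C) * b) =
      algebraMap (A ⊗[P] C) (Localization.Away b) (y * b) := by
    rw [map_mul, map_mul, ← mul_assoc, hys]
  obtain ⟨u, hu'⟩ := hu
  have : x = algebraMap (A ⊗[P] C) (Localization.Away b) (y * b) * ↑u⁻¹ := by
    rw [← hxe, ← hu', mul_assoc, Units.mul_inv, mul_one]
  rw [this]
  exact Ideal.mul_mem_right _ _ hmem

end Core

section Ring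

variable {R A A₀ C : Type u} [CommRing R] [CommRing A] [CommRing A₀] [CommRing C]

theorem ring_core (α : R →+* A) (γ : R →+* C) (hγ : γ.IsStandardSmooth)
    (ρ : A →+* A₀) (hρ : Function.Surjective ρ) (φ₀ : C →+* A₀) (hcomm : φ₀.comp γ = ρ.comp α) :
    ∃ (B' : Type u) (_ : CommRing B') (ε : A →+* B') (φ : C →+* B') (τ : B' →+* A₀),
      ε.Etale ∧ φ.comp γ = ε.comp α ∧ τ.comp ε = ρ ∧ τ.comp φ = φ₀ ∧
      RingHom.ker τ ≤ (RingHom.ker ρ).map ε := by
  obtain ⟨n, g, hg, hget⟩ := hγ.exists_etale_mvPolynomial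
  choose a ha using fun j : Fin n => hρ (φ₀ (g (MvPolynomial.X j)))
  let ψ : MvPolynomial (Fin n) R →+* A := MvPolynomial.eval₂Hom α a
  letI algA : Algebra (MvPolynomial (Fin n) R) A := ψ.toAlgebra
  letI algC : Algebra (MvPolynomial (Fin n) R) C := g.toAlgebra
  letI algA₀ : Algebra (MvPolynomial (Fin n) R) A₀ := (ρ.comp ψ).toAlgebra
  haveI : Algebra.Etale (MvPolynomial (Fin n) R) C := hget
  let ρP : A →ₐ[MvPolynomial (Fin n) R] A₀ := { ρ with commutes' := fun _ => rfl }
  have hφg : φ₀.comp g = ρ.comp ψ := by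
    apply MvPolynomial.ringHom_ext
    · intro r
      have h1 : g (MvPolynomial.C r) = γ r := by rw [← hg]; rfl
      have h2 : ψ (MvPolynomial.C r) = α r := by simp [ψ]
      simp only [RingHom.comp_apply, h1, h2]
      exact congr($hcomm r)
    · intro j
      have h2 : ψ (MvPolynomial.X j) = a j := by simp [ψ]
      simp only [RingHom.comp_apply, h2, ha]
  let φP : C →ₐ[MvPolynomial (Fin n) R] A₀ :=
    { φ₀ with commutes' := fun x => congr($hφg x) }
  obtain ⟨b, τ, hτ, hker⟩ := alg_core ρP hρ φP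
  refine ⟨Localization.Away b, inferInstance,
    (algebraMap (A ⊗[MvPolynomial (Fin n) R] C) (Localization.Away b)).comp
      (Algebra.TensorProduct.includeLeftRingHom),
    (algebraMap (A ⊗[MvPolynomial (Fin n) R] C) (Localization.Away b)).comp
      (Algebra.TensorProduct.includeRight : C →ₐ[MvPolynomial (Fin n) R] _).toRingHom,
    τ, ?_, ?_, ?_, ?_, hker⟩
  · refine RingHom.Etale.stableUnderComposition _ _ ?_ ?_
    · exact RingHom.etale_algebraMap.mpr
        (inferInstance : Algebra.Etale A (A ⊗[MvPolynomial (Fin n) R] C))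
    · haveI : Algebra.Etale (A ⊗[MvPolynomial (Fin n) R] C) (Localization.Away b) :=
        Algebra.Etale.of_isLocalizationAway b
      exact RingHom.etale_algebraMap.mpr inferInstance
  · ext r
    show algebraMap _ (Localization.Away b) ((1 : A) ⊗ₜ[MvPolynomial (Fin n) R] (γ r)) =
      algebraMap _ (Localization.Away b) ((α r) ⊗ₜ[MvPolynomial (Fin n) R] (1 : C))
    congr 1
    have h1 : γ r = algebraMap (MvPolynomial (Fin n) R) C (MvPolynomial.C r) := by
      rw [← hg]; rfl
    have h2 : α r = algebraMap (MvPolynomial (Fin n) R) A (MvPolynomial.C r) := by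
      show α r = ψ (MvPolynomial.C r)
      simp [ψ]
    rw [h1, h2, Algebra.algebraMap_eq_smul_one, Algebra.algebraMap_eq_smul_one (A := A),
      TensorProduct.smul_tmul]
  · ext x
    show τ (algebraMap _ _ (x ⊗ₜ[MvPolynomial (Fin n) R] (1 : C))) = ρ x
    rw [hτ]
    simp [ρP]
  · ext c
    show τ (algebraMap _ _ ((1 : A) ⊗ₜ[MvPolynomial (Fin n) R] c)) = φ₀ c
    rw [hτ]
    simp [φP]

end Ring

end Groth.Agent.Helper2.EtNbhd
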