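import Mathlib
import Groth.Agent.Lib.Helper2.EtNbhd.Alg

set_option autoImplicit false
set_option backward.isDefEq.respectTransparency.types false
set_option synthInstance.maxHeartbeats 400000
set_option maxHeartbeats 4000000
set_option linter.style.haveILetI false
set_option linter.unusedSectionVars false
set_option linter.unusedVariables false
set_option linter.unusedSimpArgs false

/-!
# Extending a morphism to a smooth scheme over an étale neighbourhood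
-/

open CategoryTheory CategoryTheory.Limits AlgebraicGeometry TopologicalSpace

namespace Groth.Agent.Helper2.EtNbhd

universe u

/-- A commutative triangle of rings `A → B' → A₀` with `A → A₀` surjective and
`ker (B' → A₀) ≤ ker (A → A₀) B'` exhibits `A₀` as the pushout of `B'` and `A₀` over `A`. -/
theorem isPushout_of_ker_le {A B' A₀ : CommRingCat.{u}} (ε : A ⟶ B') (ρ : A ⟶ A₀) (τ : B' ⟶ A₀)
    (hτε : ε ≫ τ = ρ) (hρ : Function.Surjective ρ.hom)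
    (hker : RingHom.ker τ.hom ≤ (RingHom.ker ρ.hom).map ε.hom) :
    IsPushout ε ρ τ (𝟙 A₀) := by
  have w : ε ≫ τ = ρ ≫ 𝟙 A₀ := by rw [hτε, Category.comp_id]
  refine ⟨⟨w⟩, ⟨PushoutCocone.IsColimit.mk w (fun s => s.inr) ?_ ?_ ?_⟩⟩
  · intro s
    ext x
    obtain ⟨a, ha⟩ := hρ (τ.hom x)
    have hεa : τ.hom (ε.hom a) = ρ.hom a := congr($hτε a)
    have hx : x - ε.hom a ∈ RingHom.ker τ.hom := by
      rw [RingHom.mem_ker, map_sub, hεa, ha, sub_self]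
    have hcond : ∀ k, s.inl.hom (ε.hom k) = s.inr.hom (ρ.hom k) := fun k =>
      congr($(s.condition) k)
    have h2 : (RingHom.ker ρ.hom).map ε.hom ≤ RingHom.ker s.inl.hom := by
      rw [Ideal.map_le_iff_le_comap]
      intro k hk
      rw [RingHom.mem_ker] at hk
      rw [Ideal.mem_comap, RingHom.mem_ker, hcond, hk, map_zero]
    have h3 := h2 (hker hx)
    rw [RingHom.mem_ker, map_sub, sub_eq_zero] at h3
    show s.inr.hom (τ.hom x) = s.inl.hom x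
    rw [h3, hcond, ha]
  · intro s
    exact Category.id_comp _
  · intro s m h1 h2
    rw [← h2, Category.id_comp]

/-- Transport of the conclusion along a pullback square. -/
theorem of_isPullback {U X X₀ Y P : Scheme.{u}} {e : U ⟶ X} {π : X₀ ⟶ X} {g₁ : P ⟶ U}
    {g₂ : P ⟶ X₀} (h : IsPullback g₁ g₂ e π) [IsOpenImmersion g₂] (f₀ : X₀ ⟶ Y) (f : U ⟶ Y)
    (x₀ : X₀) (hx₀ : x₀ ∈ Set.range g₂) (hf : g₂ ≫ f₀ = g₁ ≫ f) :
    IsOpenImmersion (pullback.snd e π) ∧ x₀ ∈ Set.range (pullback.snd e π).base ∧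
      pullback.snd e π ≫ f₀ = pullback.fst e π ≫ f := by
  have e1 : pullback.snd e π = h.isoPullback.inv ≫ g₂ := by simp
  have e2 : pullback.fst e π = h.isoPullback.inv ≫ g₁ := by simp
  refine ⟨?_, ?_, ?_⟩
  · rw [e1]; infer_instance
  · obtain ⟨z, rfl⟩ := hx₀
    refine ⟨h.isoPullback.hom z, ?_⟩
    have h' : (h.isoPullback.hom ≫ pullback.snd e π) z = g₂ z := by
      rw [h.isoPullback_hom_snd]
    exact h'
  · rw [e1, e2, Category.assoc, Category.assoc, hf]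

theorem core_sch {S X X₀ Y : Scheme.{u}} (π : X₀ ⟶ X) [IsClosedImmersion π]
    (p : X ⟶ S) (q : Y ⟶ S) [Smooth q] (f₀ : X₀ ⟶ Y) (hf₀ : f₀ ≫ q = π ≫ p) (x₀ : X₀) :
    ∃ (U : Scheme.{u}) (e : U ⟶ X) (f : U ⟶ Y), Etale e ∧ f ≫ q = e ≫ p ∧
      IsOpenImmersion (pullback.snd e π) ∧ x₀ ∈ Set.range (pullback.snd e π).base ∧
      pullback.snd e π ≫ f₀ = pullback.fst e π ≫ f := by
  obtain ⟨WS, hWS, V, hV, hyV, eV, hsm⟩ := Smooth.exists_isStandardSmooth q (f₀ x₀)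
  obtain ⟨O, hO, hOeq⟩ := π.isEmbedding.isInducing.isOpen_iff.mp (f₀ ⁻¹ᵁ V).isOpen
  have hpq : p (π x₀) = q (f₀ x₀) := by
    have := congrArg (fun φ : X₀ ⟶ S => φ x₀) hf₀
    simpa using this.symm
  have hx : π x₀ ∈ (⟨O, hO⟩ : X.Opens) ⊓ p ⁻¹ᵁ WS := by
    refine ⟨?_, ?_⟩
    · show x₀ ∈ π ⁻¹' O
      rw [hOeq]
      exact hyV
    · show p (π x₀) ∈ WS
      rw [hpq]
      exact eV hyV
  obtain ⟨UA, hUA', hxUA, hUAle⟩ := Opens.isBasis_iff_nbhd.mp X.isBasis_affineOpens hx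
  have hUA : IsAffineOpen UA := hUA'
  have hQ : IsAffineOpen (π ⁻¹ᵁ UA) := hUA.preimage π
  have hUAp : UA ≤ p ⁻¹ᵁ WS := fun z hz => (hUAle hz).2
  have hQV : π ⁻¹ᵁ UA ≤ f₀ ⁻¹ᵁ V := by
    intro z hz
    have h2 : z ∈ π ⁻¹' O := (hUAle hz).1
    rw [hOeq] at h2
    exact h2
  have hρ : Function.Surjective (π.appLE UA (π ⁻¹ᵁ UA) le_rfl).hom := by
    rw [← Scheme.Hom.app_eq_appLE]
    exact π.app_surjective UA hUA
  have key : ∀ (F G : X₀ ⟶ S) (h : F = G) (e1 : π ⁻¹ᵁ UA ≤ F ⁻¹ᵁ WS)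
      (e2 : π ⁻¹ᵁ UA ≤ G ⁻¹ᵁ WS), F.appLE WS (π ⁻¹ᵁ UA) e1 = G.appLE WS (π ⁻¹ᵁ UA) e2 := by
    intro F G h e1 e2
    subst h
    rfl
  have hcomm0 : q.appLE WS V eV ≫ f₀.appLE V (π ⁻¹ᵁ UA) hQV =
      p.appLE WS UA hUAp ≫ π.appLE UA (π ⁻¹ᵁ UA) le_rfl := by
    rw [Scheme.Hom.appLE_comp_appLE, Scheme.Hom.appLE_comp_appLE]
    exact key _ _ hf₀ _ _
  have hcomm : (f₀.appLE V (π ⁻¹ᵁ UA) hQV).hom.comp (q.appLE WS V eV).hom =
      (π.appLE UA (π ⁻¹ᵁ UA) le_rfl).hom.comp (p.appLE WS UA hUAp).hom := by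
    have := congrArg CommRingCat.Hom.hom hcomm0
    simpa using this
  obtain ⟨B', _, ε, φ, τ, hεet, h1, h2, h3, hker⟩ :=
    ring_core (p.appLE WS UA hUAp).hom (q.appLE WS V eV).hom hsm
      (π.appLE UA (π ⁻¹ᵁ UA) le_rfl).hom hρ (f₀.appLE V (π ⁻¹ᵁ UA) hQV).hom hcomm
  let εc : Γ(X, UA) ⟶ CommRingCat.of B' := CommRingCat.ofHom ε
  let φc : Γ(Y, V) ⟶ CommRingCat.of B' := CommRingCat.ofHom φ
  let τc : CommRingCat.of B' ⟶ Γ(X₀, π ⁻¹ᵁ UA) := CommRingCat.ofHom τ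
  have h1c : q.appLE WS V eV ≫ φc = p.appLE WS UA hUAp ≫ εc := by
    ext r
    exact congr($h1 r)
  have h2c : εc ≫ τc = π.appLE UA (π ⁻¹ᵁ UA) le_rfl := by
    ext r
    exact congr($h2 r)
  have h3c : φc ≫ τc = f₀.appLE V (π ⁻¹ᵁ UA) hQV := by
    ext r
    exact congr($h3 r)
  have hpush := isPushout_of_ker_le εc (π.appLE UA (π ⁻¹ᵁ UA) le_rfl) τc h2c hρ hker
  have sqB := isPullback_SpecMap_of_isPushout _ _ _ _ hpush
  have sqA : IsPullback (Spec.map (π.appLE UA (π ⁻¹ᵁ UA) le_rfl)) hQ.fromSpec hUA.fromSpec π :=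
    IsOpenImmersion.isPullback _ _ _ _ (hUA.SpecMap_appLE_fromSpec π hQ le_rfl).symm
      (by rw [hUA.opensRange_fromSpec, hQ.opensRange_fromSpec])
  have sq := sqB.paste_vert sqA
  rw [Spec.map_id, Category.id_comp] at sq
  refine ⟨Spec (CommRingCat.of B'), Spec.map εc ≫ hUA.fromSpec, Spec.map φc ≫ hV.fromSpec,
    ?_, ?_, ?_⟩
  · haveI : Etale (Spec.map εc) := by
      rw [HasRingHomProperty.Spec_iff (P := @Etale)]
      exact hεet
    infer_instance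
  · rw [Category.assoc, Category.assoc, ← hWS.SpecMap_appLE_fromSpec q hV eV,
      ← hWS.SpecMap_appLE_fromSpec p hUA hUAp, ← Category.assoc, ← Category.assoc,
      ← Spec.map_comp, ← Spec.map_comp, h1c]
  · refine of_isPullback sq f₀ _ x₀ ?_ ?_
    · rw [hQ.range_fromSpec]
      exact hxUA
    · rw [← hV.SpecMap_appLE_fromSpec f₀ hQ hQV, ← Category.assoc, ← Spec.map_comp, h3c]

end Groth.Agent.Helper2.EtNbhd
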